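import Groth.Agent.Lib.IsogProps19.Points
import Groth.Agent.Lib.IsogSub19.Main
import Groth.Agent.Lib.IsogGaGm24.Basic
import Groth.Agent.Lib.AlgGrp14.Core
import Groth.Agent.Lib.AbAff14.Core
import Groth.Agent.Lib.TorusNorm25.Torus
import Groth.Agent.Lib.Homog14.Sweep
import Groth.Agent.Lib.ConnDim.Basic
import Groth.Agent.Lib.DiagGrp.Torus
import Groth.Agent.S17465

/-!
# Subtori under isogenies
-/

universe u
set_option autoImplicit false
set_option linter.style.haveILetI false
set_option backward.isDefEq.respectTransparency false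
open CategoryTheory CategoryTheory.Limits MonoidalCategory CartesianMonoidalCategory MonObj GrpObj
open AlgebraicGeometry TopologicalSpace

namespace GrothLib.IsogProps19

variable {K : Type u} [Field K] [IsAlgClosed K]

/-- Basic properties of a torus. -/
theorem torus_props (T : Over (Spec (CommRingCat.of K))) [GrpObj T] (hT : Red.IsTorus T) :
    Smooth T.hom ∧ QuasiCompact T.hom ∧ ConnectedSpace T.left ∧ IrreducibleSpace T.left := by
  haveI := GrothLib.TorusNorm25.smooth_of_isTorus hT
  haveI := (GrothLib.Rigidity.smooth_connected_of_isTorus T hT).2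
  haveI := GrothLib.Rigidity.irreducibleSpace_of_connected T
  haveI := GrothLib.Homog14.compactSpace_of_irreducible T
  exact ⟨inferInstance, (quasiCompact_iff_compactSpace T.hom).2 inferInstance, inferInstance, inferInstance⟩

/-- Reduced groups are smooth. -/
theorem smooth_of_reduced (U : Over (Spec (CommRingCat.of K))) [GrpObj U] [LocallyOfFiniteType U.hom]
    [IsReduced U.left] : Smooth U.hom := by
  haveI := GrothLib.UnitProd.geometricallyReduced_of_isReduced U.hom
  letI : GrpObj (Over.mk U.hom) := (inferInstance : GrpObj U)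
  exact smooth_of_grpObj U.hom

/-- Tori are commutative. -/
theorem isCommMonObj_of_torus (T : Over (Spec (CommRingCat.of K))) [GrpObj T] (hT : Red.IsTorus T) :
    IsCommMonObj T := by
  rw [isCommMonObj_iff_isMulCommutative]
  exact fun X => ⟨⟨fun s t =>
    GrothLib.DiagGrp.mul_comm_of_charts (GrothLib.DiagGrp.hasChartsFpqc_of_isTorus hT) X s t⟩⟩

/-- An affine scheme of finite type over a field has finite dimension. -/
theorem topologicalKrullDim_lt_top (X : Over (Spec (CommRingCat.of K))) [IsAffine X.left]
    [LocallyOfFiniteType X.hom] : topologicalKrullDim X.left < ⊤ := by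
  let φ := (Scheme.ΓSpecIso (CommRingCat.of K)).inv ≫ X.hom.appTop
  letI : Algebra K Γ(X.left, ⊤) := φ.hom.toAlgebra
  haveI : Algebra.FiniteType K Γ(X.left, ⊤) := by
    have h := HasRingHomProperty.appTop (P := @LocallyOfFiniteType) X.hom inferInstance
    show RingHom.FiniteType φ.hom
    exact (RingHom.finiteType_respectsIso.cancel_left_isIso _ _).mpr h
  obtain ⟨n, f, hf⟩ := Algebra.FiniteType.iff_quotient_mvPolynomial''.mp ‹Algebra.FiniteType K Γ(X.left, ⊤)›
  have h : ringKrullDim Γ(X.left, ⊤) ≤ ringKrullDim (MvPolynomial (Fin n) K) :=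
    ringKrullDim_le_of_surjective f.toRingHom hf
  rw [MvPolynomial.ringKrullDim_of_isNoetherianRing, ringKrullDim_eq_zero_of_field, zero_add] at h
  rw [IsHomeomorph.topologicalKrullDim_eq _ X.left.isoSpec.hom.homeomorph.isHomeomorph]
  exact ((PrimeSpectrum.topologicalKrullDim_eq_ringKrullDim _).trans_le h).trans_lt
    (WithBot.coe_lt_coe.2 (ENat.natCast_lt_top _))

omit [IsAlgClosed K] in
/-- A smooth connected group that is finite is trivial. -/
theorem isTrivialGrp_of_isFinite (T : Over (Spec (CommRingCat.of K))) [GrpObj T] [Smooth T.hom]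
    [ConnectedSpace T.left] [IsFinite T.hom] : Red.IsTrivialGrp T := by
  haveI := GrothLib.IsogGaGm24.isIntegral_of_smooth T
  have h := GrothLib.IsogGaGm24.eq_const_of_isFinite (η[T] : 𝟙_ _ ⟶ T) (𝟙 T)
  rw [Category.comp_id] at h
  refine ⟨(η[T] : 𝟙_ (Over (Spec (CommRingCat.of K))) ⟶ T).left, ?_, Over.w η[T]⟩
  exact (congrArg CommaMorphism.left h).symm

/-- A surjective finite homomorphism onto a trivial group has trivial connected smooth source. -/
theorem isTrivialGrp_of_finite_hom {A B : Over (Spec (CommRingCat.of K))} [GrpObj A] [GrpObj B] [Smooth A.hom]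
    [ConnectedSpace A.left] (g : A ⟶ B) [IsFinite g.left] (hB : Red.IsTrivialGrp B) : Red.IsTrivialGrp A := by
  haveI : IsIso B.hom := hB
  haveI : IsFinite A.hom := by rw [← Over.w g]; infer_instance
  exact isTrivialGrp_of_isFinite A

omit [IsAlgClosed K] in
/-- A finite surjective homomorphism is an isogeny. -/
theorem isIsogenyOver {A B : Over (Spec (CommRingCat.of K))} [GrpObj A] [GrpObj B] (g : A ⟶ B) [IsMonHom g]
    [IsFinite g.left] [Surjective g.left] : SGA7.IsIsogenyOver g := by
  refine ⟨inferInstance, fun N i hi => ?_⟩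
  have h : IsFinite (toUnit N).left :=
    MorphismProperty.of_isPullback (P := @IsFinite) (IsPullback.map (Over.forget _) hi) ‹_›
  rw [← Over.w (toUnit N)]
  haveI := h
  haveI : IsFinite (𝟙_ (Over (Spec (CommRingCat.of K)))).hom :=
    inferInstanceAs (IsFinite (𝟙 (Spec (CommRingCat.of K))))
  infer_instance

variable {G H : Over (Spec (CommRingCat.of K))} [GrpObj G] [GrpObj H] [Smooth G.hom] [Smooth H.hom]
  [QuasiCompact G.hom] [QuasiCompact H.hom] [IsAffine G.left] [IsAffine H.left]
  (f : G ⟶ H) [IsMonHom f] [IsFinite f.left]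

include f in
theorem hasNoSubtorus_source (h : Red.HasNoSubtorus K H) : Red.HasNoSubtorus K G := by
  intro T _ j _ _ hT
  obtain ⟨hsm, hqc, hcon, hirr⟩ := torus_props T hT
  haveI := hsm; haveI := hqc; haveI := hcon; haveI := hirr
  haveI := GrothLib.AlgGrp14.isClosedImmersion_of_mono j
  haveI : IsFinite (j ≫ f).left := by rw [Over.comp_left]; infer_instance
  obtain ⟨M, _, jM, _, _, g, hgj, hgd, hgq⟩ := GrothLib.AntiAffine.exists_image_subgroup (j ≫ f)
  haveI := hgd; haveI := hgq
  haveI : IsReduced T.left := GrothLib.RedSmooth.isReduced_of_smooth T.hom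
  haveI : IsReduced M.left := IsSchemeTheoreticallyDominant.isReduced g.left
  haveI : IsFinite g.left := by
    haveI : IsFinite (g.left ≫ jM.left) := by rw [← Over.comp_left, hgj]; infer_instance
    exact IsFinite.of_comp g.left jM.left
  haveI : Surjective g.left := ⟨fun y => by
    have h1 := g.left.denseRange.closure_eq
    rw [(g.left.isClosedMap.isClosed_range).closure_eq] at h1
    exact Set.range_eq_univ.mp h1 y⟩
  haveI : LocallyOfFiniteType M.hom := by rw [← Over.w jM]; infer_instance
  haveI : QuasiCompact M.hom := by rw [← Over.w jM]; infer_instance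
  haveI : Smooth M.hom := smooth_of_reduced M
  haveI : ConnectedSpace M.left := g.left.surjective.connectedSpace g.left.continuous
  haveI : Mono jM.left := IsPreimmersion.instMonoScheme jM.left
  haveI : Mono jM := Over.mono_of_mono_left jM
  haveI : IsMonHom g := by
    haveI : IsMonHom (g ≫ jM) := by rw [hgj]; infer_instance
    exact GrothLib.Flag27.isMonHom_of_comp g jM
  haveI : IsAffine T.left := isAffine_of_isAffineHom j.left
  haveI : IsAffine M.left := isAffine_of_isAffineHom jM.left
  haveI : IsCommMonObj T := isCommMonObj_of_torus T hT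
  haveI : Flat g.left := GrothLib.GrpSchField.flat_hom g
  haveI : IsCommMonObj M := GrothLib.AbAff14.isCommMonObj_of_epi g
  have hM : Red.IsTorus M := (Groth.Agent.S17465.result K T M g (isIsogenyOver g)).1 hT
  exact isTrivialGrp_of_finite_hom g (h M jM hM)

include f in
theorem hasNoSubtorus_target [Surjective f.left] (h : Red.HasNoSubtorus K G) : Red.HasNoSubtorus K H := by
  intro T _ j _ _ hT
  obtain ⟨hsm, hqc, hcon, hirr⟩ := torus_props T hT
  haveI := hsm; haveI := hqc; haveI := hcon; haveI := hirr
  haveI := GrothLib.AlgGrp14.isClosedImmersion_of_mono j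
  haveI : IsAffine T.left := isAffine_of_isAffineHom j.left
  let P : Over (Spec (CommRingCat.of K)) := Over.mk (pullback.fst f.left j.left ≫ G.hom)
  let a : P ⟶ G := Over.homMk (pullback.fst f.left j.left) rfl
  let b : P ⟶ T := Over.homMk (pullback.snd f.left j.left) (by
    show pullback.snd f.left j.left ≫ T.hom = pullback.fst f.left j.left ≫ G.hom
    rw [← Over.w j, ← pullback.condition_assoc, Over.w f])
  have hsqL : IsPullback a.left b.left f.left j.left := IsPullback.of_hasPullback f.left j.left
  have hsq : IsPullback a b f j := IsPullback.of_map (Over.forget _) (Over.OverMorphism.ext hsqL.w) hsqL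
  haveI : IsClosedImmersion a.left := inferInstanceAs (IsClosedImmersion (pullback.fst f.left j.left))
  haveI : IsFinite b.left := inferInstanceAs (IsFinite (pullback.snd f.left j.left))
  haveI : Surjective b.left := inferInstanceAs (Surjective (pullback.snd f.left j.left))
  obtain ⟨hP, hb, ha⟩ := GrothLib.SubPre14.exists_grpObj_pullback f j b a hsq.flip
  haveI := ha; haveI := hb
  obtain ⟨R, _, r, _, _, _, _⟩ := GrothLib.AffMono14.exists_red P
  haveI : LocallyOfFiniteType R.hom := by
    haveI : LocallyOfFiniteType P.hom := inferInstanceAs (LocallyOfFiniteType (pullback.fst f.left j.left ≫ G.hom))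
    rw [← Over.w r]; infer_instance
  obtain ⟨U, _, c, _, _, hUc, hUi, _⟩ := GrothLib.GrpExt19.exists_neutral R
  haveI := hUi; haveI := hUc
  haveI : IsReduced U.left := isReduced_of_isOpenImmersion c.left
  haveI : Smooth U.hom := smooth_of_reduced U
  haveI : QuasiCompact U.hom := (quasiCompact_iff_compactSpace U.hom).mpr inferInstance
  haveI : QuasiCompact c.left := by
    haveI : QuasiCompact (c.left ≫ R.hom) := by rw [Over.w c]; infer_instance
    haveI : IsSeparated R.hom := GrothLib.GrpSchField.isSeparated R
    exact QuasiCompact.of_comp c.left R.hom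
  have hUrange : IsClosed (Set.range c.left.base) := GrothLib.Neutral.isClosed_range_hom (u := c)
  haveI : IsClosedImmersion c.left := IsClosedImmersion.of_isPreimmersion _ hUrange
  let i : U ⟶ G := c ≫ r ≫ a
  let g : U ⟶ T := c ≫ r ≫ b
  haveI : IsClosedImmersion i.left := by
    show IsClosedImmersion (c ≫ r ≫ a).left
    rw [Over.comp_left, Over.comp_left]; infer_instance
  haveI : IsFinite g.left := by
    show IsFinite (c ≫ r ≫ b).left
    rw [Over.comp_left, Over.comp_left]; infer_instance
  haveI : IsAffine U.left := isAffine_of_isAffineHom i.left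
  haveI : IrreducibleSpace U.left := hUi
  haveI : ConnectedSpace U.left := inferInstance
  have hcomp : Set.range c.left.base ∈ irreducibleComponents R.left := by
    have h1 : IsIrreducible (Set.range c.left.base) := by
      rw [← Set.image_univ]
      exact (IrreducibleSpace.isIrreducible_univ U.left).image _ c.left.continuous.continuousOn
    refine ⟨h1, fun Z hZ hle => ?_⟩
    have hsub := subset_closure_inter_of_isPreirreducible_of_isOpen hZ.2 c.left.isOpenEmbedding.isOpen_range
      (h1.nonempty.mono fun x hx => ⟨hle hx, hx⟩)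
    exact hsub.trans (closure_minimal Set.inter_subset_right hUrange)
  have hd : topologicalKrullDim T.left ≤ topologicalKrullDim U.left := by
    have h1 : topologicalKrullDim U.left = topologicalKrullDim R.left := by
      rw [← GrothLib.GrpSchField.topologicalKrullDim_component R hcomp]
      exact IsHomeomorph.topologicalKrullDim_eq _ c.left.isClosedEmbedding.isEmbedding.toHomeomorph.isHomeomorph
    haveI : IsFinite (r ≫ b).left := by rw [Over.comp_left]; infer_instance
    haveI : Surjective (r ≫ b).left := by rw [Over.comp_left]; infer_instance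
    rw [h1]
    exact GrothLib.AlgSp.topologicalKrullDim_le_of_isIntegralHom_surjective (r ≫ b).left
  obtain ⟨M, _, jM, _, _, g', hgj, hgd, hgq⟩ := GrothLib.AntiAffine.exists_image_subgroup g
  haveI := hgd; haveI := hgq
  haveI : IsFinite g'.left := by
    haveI : IsFinite (g'.left ≫ jM.left) := by rw [← Over.comp_left, hgj]; infer_instance
    exact IsFinite.of_comp g'.left jM.left
  haveI : Surjective g'.left := ⟨fun y => by
    have h1 := g'.left.denseRange.closure_eq
    rw [(g'.left.isClosedMap.isClosed_range).closure_eq] at h1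
    exact Set.range_eq_univ.mp h1 y⟩
  haveI : Surjective g.left := by
    haveI : Surjective jM.left := ⟨fun y => by
      by_contra hy
      have hne : Set.range jM.left.base ≠ Set.univ := fun he => hy (Set.range_eq_univ.mp he y)
      haveI : IsLocallyNoetherian T.left := LocallyOfFiniteType.isLocallyNoetherian (Y := Spec _) T.hom
      haveI : AlgebraicGeometry.IsNoetherian T.left := {}
      have hlt := GrothLib.ConnDim.dim_lt (Z := Set.range jM.left.base) (C := (Set.univ : Set T.left))
        (Set.subset_univ _) hne jM.left.isClosedEmbedding.isClosed_range isClosed_univ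
        (IrreducibleSpace.isIrreducible_univ _) (by
          rw [(Homeomorph.Set.univ T.left).isHomeomorph.topologicalKrullDim_eq]
          exact topologicalKrullDim_lt_top T)
      rw [(Homeomorph.Set.univ T.left).isHomeomorph.topologicalKrullDim_eq,
        ← (jM.left.isClosedEmbedding.isEmbedding.toHomeomorph).isHomeomorph.topologicalKrullDim_eq] at hlt
      exact absurd (hd.trans (GrothLib.AlgSp.topologicalKrullDim_le_of_isIntegralHom g'.left)) (not_le.2 hlt)⟩
    rw [← hgj, Over.comp_left]
    infer_instance
  haveI : IsCommMonObj T := isCommMonObj_of_torus T hT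
  haveI : IsCommMonObj U := GrothLib.IsogGaGm24.isCommMonObj_of_finite g
  have hU : Red.IsTorus U := (Groth.Agent.S17465.result K U T g (isIsogenyOver g)).2 hT
  haveI : Mono i.left := IsPreimmersion.instMonoScheme i.left
  haveI : Mono i := Over.mono_of_mono_left i
  haveI : IsIso U.hom := h U i hU
  haveI : UniversallyClosed T.hom := by
    haveI : UniversallyClosed (g.left ≫ T.hom) := by rw [Over.w g]; infer_instance
    exact UniversallyClosed.of_comp_surjective g.left T.hom
  haveI : IsAffineHom T.hom := isAffineHom_of_isAffine _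
  haveI : IsFinite T.hom := IsFinite.iff_isProper_and_isAffineHom.2 ⟨⟨⟩, inferInstance⟩
  exact isTrivialGrp_of_isFinite T

end GrothLib.IsogProps19
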