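import Groth.Agent.Lib.GrpClass19.Geom
import Groth.Agent.Lib.Flag27.More

/-!
# Points under isogenies of connected groups
-/

universe u
set_option autoImplicit false
set_option linter.style.haveILetI false
set_option backward.isDefEq.respectTransparency false
open CategoryTheory CategoryTheory.Limits MonoidalCategory CartesianMonoidalCategory MonObj GrpObj
open AlgebraicGeometry TopologicalSpace
open scoped commutatorElement

namespace GrothLib.IsogProps19

open GrothLib.GrpClass19

variable {K : Type u} [Field K] [IsAlgClosed K]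

local notation "𝔻" => Over.mk (𝟙 (Spec (CommRingCat.of K)))

variable {G H : Over (Spec (CommRingCat.of K))} [GrpObj G] [GrpObj H] [LocallyOfFiniteType G.hom]
  [LocallyOfFiniteType H.hom] (f : G ⟶ H) [IsMonHom f]

/-- The homomorphism on rational points. -/
noncomputable abbrev ptMap : (Over.mk (𝟙 (Spec (CommRingCat.of K))) ⟶ G) →* (Over.mk (𝟙 (Spec (CommRingCat.of K))) ⟶ H) :=
  MonoidHom.mk' (fun x => x ≫ f) fun x y => MonObj.mul_comp x y f

theorem ptMap_surjective [Surjective f.left] : Function.Surjective (ptMap f) := by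
  intro y
  haveI : JacobsonSpace G.left := LocallyOfFiniteType.jacobsonSpace (Y := Spec _) G.hom
  haveI : JacobsonSpace H.left := LocallyOfFiniteType.jacobsonSpace (Y := Spec _) H.hom
  have hc : IsClosed ({ptLoc y} : Set H.left) := by
    have : ptLoc y ∈ closedPoints H.left := (range_ptLoc (K := K) (H := H)) ▸ Set.mem_range_self y
    exact this
  obtain ⟨p, hp⟩ := f.left.surjective (ptLoc y)
  obtain ⟨q, hq, hqc⟩ := nonempty_inter_closedPoints (Z := f.left.base ⁻¹' {ptLoc y}) ⟨p, hp⟩
    (hc.preimage f.left.continuous).isLocallyClosed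
  rw [← range_ptLoc] at hqc
  obtain ⟨x, rfl⟩ := hqc
  exact ⟨x, ptLoc_injective ((ptLoc_comp x f).trans hq)⟩

/-- The kernel of a finite homomorphism out of a connected group is central on rational points. -/
theorem ker_le_center [IsFinite f.left] [IrreducibleSpace G.left] :
    (ptMap f).ker ≤ Subgroup.center (Over.mk (𝟙 (Spec (CommRingCat.of K))) ⟶ G) := by
  intro x hx
  rw [Subgroup.mem_center_iff]
  intro g
  haveI : JacobsonSpace G.left := LocallyOfFiniteType.jacobsonSpace (Y := Spec _) G.hom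
  let cx : G ⟶ G := toUnit G ≫ x
  have hcx : ∀ t : 𝔻 ⟶ G, t ≫ cx = x := fun t => by
    show t ≫ toUnit G ≫ x = x
    rw [← Category.assoc, toUnit_unique (t ≫ toUnit G) (toUnit _)]
    have : toUnit (𝔻) = 𝟙 (𝔻) := toUnit_unique (toUnit _) (𝟙 (𝟙_ (Over (Spec (CommRingCat.of K)))))
    rw [this, Category.id_comp]
  let c : G ⟶ G := 𝟙 G * cx * (𝟙 G)⁻¹
  have hc : ∀ t : 𝔻 ⟶ G, t ≫ c = t * x * t⁻¹ := fun t => by
    simp only [c, MonObj.comp_mul, GrpObj.comp_inv, Category.comp_id, hcx]
  let Kf : Set G.left := {z | z ∈ closedPoints G.left ∧ f.left.base z = ptLoc (1 : 𝔻 ⟶ H)}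
  have hfin : Kf.Finite := (f.left.finite_preimage_singleton _).subset fun z hz => hz.2
  have hKc : IsClosed Kf := by
    rw [show Kf = ⋃ z ∈ Kf, ({z} : Set G.left) by simp]
    exact hfin.isClosed_biUnion fun z hz => hz.1
  have hmap : ∀ t : 𝔻 ⟶ G, c.left.base (ptLoc t) ∈ Kf := fun t => by
    rw [← ptLoc_comp, hc]
    refine ⟨(range_ptLoc (K := K) (H := G)) ▸ Set.mem_range_self _, ?_⟩
    rw [← ptLoc_comp]
    refine congrArg ptLoc ?_
    show ptMap f (t * x * t⁻¹) = 1
    rw [map_mul, map_mul, MonoidHom.mem_ker.1 hx, _root_.mul_one, ← map_mul, mul_inv_cancel, map_one]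
  have huniv : c.left.base ⁻¹' Kf = Set.univ := by
    refine Set.eq_univ_of_forall fun p => ?_
    by_contra hp
    obtain ⟨q, hq, hqc⟩ := nonempty_inter_closedPoints (Z := (c.left.base ⁻¹' Kf)ᶜ) ⟨p, hp⟩
      (hKc.preimage c.left.continuous).isOpen_compl.isLocallyClosed
    rw [← range_ptLoc] at hqc
    obtain ⟨t, rfl⟩ := hqc
    exact hq (hmap t)
  obtain ⟨z, hzK, hz⟩ : ∃ z ∈ Kf, Set.range c.left.base ⊆ {z} := by
    have hirr : IsIrreducible (Set.range c.left.base) := by
      rw [← Set.image_univ]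
      exact (IrreducibleSpace.isIrreducible_univ G.left).image _ c.left.continuous.continuousOn
    obtain ⟨W, hW, hsub⟩ := isIrreducible_iff_sUnion_isClosed.mp hirr (hfin.toFinset.image fun z => ({z} : Set G.left))
      (fun W hW => by
        obtain ⟨z, hz, rfl⟩ := Finset.mem_image.mp hW
        exact (hfin.mem_toFinset.mp hz).1)
      (fun w hw => by
        obtain ⟨p, rfl⟩ := hw
        have hp : p ∈ c.left.base ⁻¹' Kf := huniv ▸ Set.mem_univ p
        exact ⟨_, Finset.mem_coe.mpr (Finset.mem_image.mpr ⟨_, hfin.mem_toFinset.mpr hp, rfl⟩), rfl⟩)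
    obtain ⟨z, hz, rfl⟩ := Finset.mem_image.mp hW
    exact ⟨z, hfin.mem_toFinset.mp hz, hsub⟩
  have h1 : ptLoc (g * x * g⁻¹) = ptLoc x := by
    rw [← hc g, ptLoc_comp]
    rw [show c.left.base (ptLoc g) = z from hz ⟨_, rfl⟩]
    have := hz ⟨ptLoc (1 : 𝔻 ⟶ G), rfl⟩
    rw [← ptLoc_comp, hc] at this
    simpa using this.symm
  have h2 := ptLoc_injective h1
  rw [← mul_inv_eq_iff_eq_mul]
  exact h2

theorem isSolvable_iff [IsFinite f.left] [Surjective f.left] [IrreducibleSpace G.left] :
    IsSolvable (𝔻 ⟶ G) ↔ IsSolvable (𝔻 ⟶ H) := by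
  refine ⟨fun h => ?_, fun h => ?_⟩
  · haveI : Group.IsSolvable (𝔻 ⟶ G) := h
    exact Group.isSolvable_of_surjective (f := ptMap f) (ptMap_surjective f)
  · obtain ⟨n, hn⟩ := h.solvable
    refine ⟨⟨n + 1, ?_⟩⟩
    have h1 : derivedSeries (𝔻 ⟶ G) n ≤ Subgroup.center (𝔻 ⟶ G) := by
      refine le_trans ?_ (ker_le_center f)
      intro z hz
      have := map_derivedSeries_le_derivedSeries (ptMap f) n (Subgroup.mem_map_of_mem (ptMap f) hz)
      rw [hn] at this
      exact this
    rw [derivedSeries_succ, Subgroup.commutator_eq_bot_iff_le_centralizer]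
    exact h1.trans (Subgroup.center_le_centralizer _)

theorem lowerCentralSeries_iff [IsFinite f.left] [Surjective f.left] [IrreducibleSpace G.left] :
    (∃ n, (⊤ : Subgroup (𝔻 ⟶ G)).lowerCentralSeries n = ⊥) ↔
      ∃ n, (⊤ : Subgroup (𝔻 ⟶ H)).lowerCentralSeries n = ⊥ := by
  constructor
  · rintro ⟨n, hn⟩
    refine ⟨n, ?_⟩
    have e : ∀ m, ((⊤ : Subgroup (𝔻 ⟶ G)).lowerCentralSeries m).map (ptMap f) =
        (⊤ : Subgroup (𝔻 ⟶ H)).lowerCentralSeries m := by
      intro m
      induction m with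
      | zero => simpa using Subgroup.map_top_of_surjective _ (ptMap_surjective f)
      | succ m ih =>
        rw [Subgroup.lowerCentralSeries_succ, Subgroup.map_commutator, ih,
          Subgroup.map_top_of_surjective _ (ptMap_surjective f), Subgroup.lowerCentralSeries_succ]
    rw [← e, hn, Subgroup.map_bot]
  · rintro ⟨n, hn⟩
    refine ⟨n + 1, ?_⟩
    have h1 : (⊤ : Subgroup (𝔻 ⟶ G)).lowerCentralSeries n ≤ Subgroup.center (𝔻 ⟶ G) := by
      refine le_trans ?_ (ker_le_center f)
      intro z hz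
      have : ptMap f z ∈ (⊤ : Subgroup (𝔻 ⟶ H)).lowerCentralSeries n :=
        Subgroup.lowerCentralSeries.map (ptMap f) n ⟨z, hz, rfl⟩
      rw [hn] at this
      exact this
    rw [Subgroup.lowerCentralSeries_succ, Subgroup.commutator_eq_bot_iff_le_centralizer]
    refine h1.trans ?_
    intro z hz
    exact Subgroup.mem_centralizer_iff.2 fun y _ => Subgroup.mem_center_iff.1 hz y

end GrothLib.IsogProps19
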