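import Groth.Agent.Lib.IsogProps19.Torus
import Groth.Agent.Lib.GrpClass19.Locus
import Groth.Agent.Lib.Flag27.Geom
import Groth.Agent.S5366

/-!
# Properties invariant under isogeny
-/

universe u
set_option autoImplicit false
set_option linter.style.haveILetI false
set_option backward.isDefEq.respectTransparency false
open CategoryTheory CategoryTheory.Limits MonoidalCategory CartesianMonoidalCategory MonObj GrpObj
open AlgebraicGeometry TopologicalSpace

namespace GrothLib.IsogProps19

theorem isogeny_props (F : Type u) [Field F]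
    (G H : Over (Spec (CommRingCat.of F))) [GrpObj G] [Smooth G.hom] [QuasiCompact G.hom] [IsAffine G.left]
    [ConnectedSpace ↥G.left] [GrpObj H] [Smooth H.hom] [QuasiCompact H.hom] [IsAffine H.left]
    [ConnectedSpace ↥H.left] (f : G ⟶ H) [IsMonHom f] [Surjective f.left] [IsFinite f.left] :
    (Red.HasNoSubtorus (AlgebraicClosure F)
        (Red.bc (Spec.map (CommRingCat.ofHom (algebraMap F (AlgebraicClosure F)))) G) ↔
      Red.HasNoSubtorus (AlgebraicClosure F)
        (Red.bc (Spec.map (CommRingCat.ofHom (algebraMap F (AlgebraicClosure F)))) H)) ∧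
    (Red.IsSolvableGrp G ↔ Red.IsSolvableGrp H) ∧ (AGF.IsNilpotentGrp G ↔ AGF.IsNilpotentGrp H) ∧
    (IsCommMonObj G ↔ IsCommMonObj H) := by
  let K := AlgebraicClosure F
  let j : Spec (CommRingCat.of K) ⟶ Spec (CommRingCat.of F) :=
    Spec.map (CommRingCat.ofHom (algebraMap F K))
  let fK : Red.bc j G ⟶ Red.bc j H := (Over.pullback j).map f
  haveI : IsMonHom fK := inferInstanceAs (IsMonHom ((Over.pullback j).map f))
  haveI : IsFinite fK.left := GrothLib.Flag27.property_map j f ‹_›
  haveI : Surjective fK.left := GrothLib.Flag27.surjective_map j f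
  haveI : Smooth (Red.bc j G).hom := GrothLib.Flag27.smooth_bc j G
  haveI : Smooth (Red.bc j H).hom := GrothLib.Flag27.smooth_bc j H
  haveI : QuasiCompact (Red.bc j G).hom := inferInstanceAs (QuasiCompact (pullback.snd G.hom j))
  haveI : QuasiCompact (Red.bc j H).hom := inferInstanceAs (QuasiCompact (pullback.snd H.hom j))
  haveI : IsAffine (Red.bc j G).left := GrothLib.Flag27.isAffine_bc j G
  haveI : IsAffine (Red.bc j H).left := GrothLib.Flag27.isAffine_bc j H
  haveI : ConnectedSpace (Red.bc j G).left := GrothLib.Flag27.connectedSpace_bc j G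
  haveI : IrreducibleSpace (Red.bc j G).left := GrothLib.Rigidity.irreducibleSpace_of_connected _
  let e : (Over.map j).obj (Over.mk (𝟙 (Spec (CommRingCat.of K)))) ≅ Over.mk j :=
    Over.isoMk (Iso.refl _) (by show 𝟙 _ ≫ j = 𝟙 _ ≫ j; rfl)
  let E : ∀ (X : Over (Spec (CommRingCat.of F))) [GrpObj X],
      (Over.mk (𝟙 (Spec (CommRingCat.of K))) ⟶ Red.bc j X) ≃* (Over.mk j ⟶ X) := fun X _ =>
    (GrothLib.DiagGrp.bcPointMulEquiv j X _).symm.trans (GrothLib.GrpClass19.congrSrc X e)
  refine ⟨⟨hasNoSubtorus_target fK, hasNoSubtorus_source fK⟩, ?_, ?_, ?_⟩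
  · have key : ∀ (X : Over (Spec (CommRingCat.of F))) [GrpObj X] [Smooth X.hom] [QuasiCompact X.hom],
        Red.IsSolvableGrp X ↔ IsSolvable (Over.mk (𝟙 (Spec (CommRingCat.of K))) ⟶ Red.bc j X) := by
      intro X _ _ _
      constructor
      · rintro ⟨n, hn⟩
        exact ⟨⟨n, (GrothLib.GrpClass19.derived_congr (E X) n).2 (hn _)⟩⟩
      · intro h
        obtain ⟨n, hn⟩ := h.solvable
        exact ⟨n, (Groth.Agent.S5366.result F X K n).1.2 ((GrothLib.GrpClass19.derived_congr (E X) n).1 hn)⟩
    rw [key G, key H]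
    exact isSolvable_iff fK
  · have key : ∀ (X : Over (Spec (CommRingCat.of F))) [GrpObj X] [Smooth X.hom] [QuasiCompact X.hom],
        AGF.IsNilpotentGrp X ↔ ∃ n, (⊤ : Subgroup (Over.mk (𝟙 (Spec (CommRingCat.of K))) ⟶
          Red.bc j X)).lowerCentralSeries n = ⊥ := by
      intro X _ _ _
      refine exists_congr fun n => ?_
      simp only [← Subgroup.lowerCentralSeries_eq_bot_iff_upperCentralSeries_eq_top]
      rw [(Groth.Agent.S5366.result F X K n).2]
      exact (GrothLib.GrpClass19.lower_congr (E X) n).symm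
    rw [key G, key H]
    exact lowerCentralSeries_iff fK
  · refine ⟨fun h => ?_, fun h => ?_⟩
    · haveI := h
      haveI : IsReduced H.left := GrothLib.RedSmooth.isReduced_of_smooth H.hom
      haveI : Flat f.left := GrothLib.GrpSchField.flat_hom f
      exact GrothLib.AbAff14.isCommMonObj_of_epi f
    · haveI := h
      exact GrothLib.IsogGaGm24.isCommMonObj_of_finite f

end GrothLib.IsogProps19
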